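import Mathlib.RingTheory.LocalRing.ResidueField.Ideal
import Mathlib.RingTheory.Spectrum.Prime.RingHom
import Mathlib.RingTheory.TensorProduct.Maps
import Mathlib.LinearAlgebra.FreeModule.Basic
import Mathlib.LinearAlgebra.Basis.VectorSpace
import Mathlib.RingTheory.Flat.FaithfullyFlat.Basic

universe u

open TensorProduct

namespace Groth.Agent.Spec91

theorem exists_prime_of_field {A B C K : Type*} [CommRing A] [CommRing B] [CommRing C] [Field K]
    [Algebra A B] [Algebra A C] (q : Ideal B) (m : Ideal C) (gB : B →+* K) (gC : C →+* K)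
    (hcomm : gB.comp (algebraMap A B) = gC.comp (algebraMap A C))
    (hB : RingHom.ker gB = q) (hC : RingHom.ker gC = m) :
    ∃ r : Ideal (B ⊗[A] C), r.IsPrime ∧
      r.comap Algebra.TensorProduct.includeLeftRingHom = q ∧
      r.comap (Algebra.TensorProduct.includeRight : C →ₐ[A] B ⊗[A] C).toRingHom = m := by
  letI : Algebra A K := (gB.comp (algebraMap A B)).toAlgebra
  let fB : B →ₐ[A] K := { gB with commutes' := fun a => rfl }
  let fC : C →ₐ[A] K := { gC with commutes' := fun a => (RingHom.congr_fun hcomm a).symm }
  let F := Algebra.TensorProduct.lift fB fC (fun _ _ => mul_comm _ _)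
  refine ⟨RingHom.ker F.toRingHom, RingHom.ker_isPrime _, ?_, ?_⟩
  · rw [RingHom.comap_ker, ← hB]
    congr 1
    ext b
    show (Algebra.TensorProduct.lift fB fC fun _ _ => mul_comm _ _) (b ⊗ₜ[A] (1 : C)) = _
    rw [Algebra.TensorProduct.lift_tmul, map_one, mul_one]
    rfl
  · rw [RingHom.comap_ker, ← hC]
    congr 1
    ext c
    show (Algebra.TensorProduct.lift fB fC fun _ _ => mul_comm _ _) ((1 : B) ⊗ₜ[A] c) = _
    rw [Algebra.TensorProduct.lift_tmul, map_one, one_mul]
    rfl

/-- Two primes with the same trace on the base are the traces of a prime of the tensor product. -/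
theorem exists_prime_tensor {A B C : Type u} [CommRing A] [CommRing B] [CommRing C]
    [Algebra A B] [Algebra A C] (q : Ideal B) [q.IsPrime] (m : Ideal C) [m.IsPrime]
    (h : q.comap (algebraMap A B) = m.comap (algebraMap A C)) :
    ∃ r : Ideal (B ⊗[A] C), r.IsPrime ∧
      r.comap Algebra.TensorProduct.includeLeftRingHom = q ∧
      r.comap (Algebra.TensorProduct.includeRight : C →ₐ[A] B ⊗[A] C).toRingHom = m := by
  let p := q.comap (algebraMap A B)
  letI : Algebra p.ResidueField q.ResidueField :=
    (Ideal.ResidueField.map p q (algebraMap A B) rfl).toAlgebra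
  letI : Algebra p.ResidueField m.ResidueField :=
    (Ideal.ResidueField.map p m (algebraMap A C) h).toAlgebra
  have : Nontrivial (q.ResidueField ⊗[p.ResidueField] m.ResidueField) :=
    (Module.FaithfullyFlat.nontrivial_tensorProduct_iff_right p.ResidueField q.ResidueField).2
      inferInstance
  obtain ⟨M, hM⟩ := Ideal.exists_maximal (q.ResidueField ⊗[p.ResidueField] m.ResidueField)
  let _ := Ideal.Quotient.field M
  let gB : q.ResidueField →+* _ ⧸ M :=
    (Ideal.Quotient.mk M).comp Algebra.TensorProduct.includeLeftRingHom
  let gC : m.ResidueField →+* _ ⧸ M :=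
    (Ideal.Quotient.mk M).comp
      (Algebra.TensorProduct.includeRight : m.ResidueField →ₐ[p.ResidueField] _).toRingHom
  have hcomm : (gB.comp (algebraMap B q.ResidueField)).comp (algebraMap A B) =
      (gC.comp (algebraMap C m.ResidueField)).comp (algebraMap A C) := by
    ext a
    show gB (algebraMap B q.ResidueField (algebraMap A B a)) =
      gC (algebraMap C m.ResidueField (algebraMap A C a))
    rw [← Ideal.ResidueField.map_algebraMap p q (algebraMap A B) rfl,
      ← Ideal.ResidueField.map_algebraMap p m (algebraMap A C) h]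
    show Ideal.Quotient.mk M (algebraMap p.ResidueField q.ResidueField _ ⊗ₜ 1) =
      Ideal.Quotient.mk M (1 ⊗ₜ algebraMap p.ResidueField m.ResidueField _)
    generalize algebraMap A p.ResidueField a = x
    rw [Algebra.algebraMap_eq_smul_one x, Algebra.algebraMap_eq_smul_one x, TensorProduct.smul_tmul]
  exact exists_prime_of_field q m (gB.comp (algebraMap B q.ResidueField))
    (gC.comp (algebraMap C m.ResidueField)) hcomm
    (by rw [RingHom.ker_comp_of_injective _ gB.injective, Ideal.ker_algebraMap_residueField])
    (by rw [RingHom.ker_comp_of_injective _ gC.injective, Ideal.ker_algebraMap_residueField])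

end Groth.Agent.Spec91
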