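import Mathlib.Topology.Spectral.Basic
import Mathlib.Topology.Spectral.ConstructibleTopology
import Mathlib.Topology.Spectral.Hom
import Mathlib.Topology.Connected.TotallyDisconnected
import Mathlib.Topology.Separation.Profinite
import Mathlib.Topology.Connected.Separation

open Set Topology

namespace Groth.Agent.Spec91

variable {X : Type*} [TopologicalSpace X]

theorem exists_between [PrespectralSpace X] {K U : Set X} (hK : IsCompact K) (hU : IsOpen U)
    (h : K ⊆ U) : ∃ V, IsOpen V ∧ IsCompact V ∧ K ⊆ V ∧ V ⊆ U := by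
  obtain ⟨V, hV₁, hV₂, hKV, hVU⟩ :=
    PrespectralSpace.exists_isCompact_and_isOpen_between hK hU h
  exact ⟨V, hV₂, hV₁, hKV, hVU⟩

/-- A compact set missing the intersection of all clopens around `x` misses one of them. -/
theorem exists_isClopen_disjoint (x : X) {K : Set X} (hK : IsCompact K)
    (h : Disjoint K (⋂ s : { s : Set X // IsClopen s ∧ x ∈ s }, (s : Set X))) :
    ∃ W : Set X, IsClopen W ∧ x ∈ W ∧ Disjoint K W := by
  have : Nonempty { s : Set X // IsClopen s ∧ x ∈ s } := ⟨⟨univ, isClopen_univ, trivial⟩⟩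
  obtain ⟨⟨W, hW, hxW⟩, hd⟩ := hK.elim_directed_family_closed
    (fun s : { s : Set X // IsClopen s ∧ x ∈ s } => (s : Set X)) (fun s => s.2.1.1)
    (disjoint_iff_inter_eq_empty.1 h)
    (fun s t => ⟨⟨s.1 ∩ t.1, s.2.1.inter t.2.1, s.2.2, t.2.2⟩, inter_subset_left,
      inter_subset_right⟩)
  exact ⟨W, hW, hxW, disjoint_iff_inter_eq_empty.2 hd⟩

theorem connectedComponent_eq_iInter [CompactSpace X] [QuasiSeparatedSpace X] [PrespectralSpace X]
    (x : X) :
    connectedComponent x = ⋂ s : { s : Set X // IsClopen s ∧ x ∈ s }, (s : Set X) := by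
  set Z := ⋂ s : { s : Set X // IsClopen s ∧ x ∈ s }, (s : Set X) with hZ
  refine Subset.antisymm connectedComponent_subset_iInter_isClopen ?_
  have hZc : IsClosed Z := isClosed_iInter fun s => s.2.1.1
  have hxZ : x ∈ Z := mem_iInter.2 fun s => s.2.2
  refine IsPreconnected.subset_connectedComponent ?_ hxZ
  rw [isPreconnected_iff_subset_of_fully_disjoint_closed hZc]
  intro A B hA hB hAB hdisj
  obtain ⟨U, hUo, hUc, hAU, hUB⟩ := exists_between (hZc.inter hA).isCompact
    hB.isOpen_compl (fun y hy hyB => hdisj.le_bot ⟨hy.2, hyB⟩)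
  obtain ⟨V, hVo, hVc, hBV, hVA⟩ := exists_between (hZc.inter hB).isCompact
    hA.isOpen_compl (fun y hy hyA => hdisj.le_bot ⟨hyA, hy.2⟩)
  have hK : IsCompact ((U ∩ V) ∪ (U ∪ V)ᶜ) :=
    (QuasiSeparatedSpace.inter_isCompact U V hUo hUc hVo hVc).union
      ((hUo.union hVo).isClosed_compl.isCompact)
  obtain ⟨W, hW, hxW, hWd⟩ := exists_isClopen_disjoint x hK (by
    rw [Set.disjoint_left]
    rintro y (⟨hyU, hyV⟩ | hy) hyZ
    · rcases hAB hyZ with h | h
      · exact hVA hyV h
      · exact hUB hyU h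
    · rcases hAB hyZ with h | h
      · exact hy (Or.inl (hAU ⟨hyZ, h⟩))
      · exact hy (Or.inr (hBV ⟨hyZ, h⟩)))
  have hcov : ∀ y ∈ W, y ∈ U ∨ y ∈ V := fun y hy => by
    by_contra hne
    exact hWd.le_bot ⟨Or.inr hne, hy⟩
  have hWU : IsClopen (W ∩ U) := by
    refine ⟨?_, hW.2.inter hUo⟩
    have : W ∩ U = W \ V := by
      ext y
      exact ⟨fun h => ⟨h.1, fun hV => hWd.le_bot ⟨Or.inl ⟨h.2, hV⟩, h.1⟩⟩,
        fun h => ⟨h.1, (hcov y h.1).resolve_right h.2⟩⟩
    rw [this]
    exact hW.1.sdiff hVo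
  rcases hcov x hxW with hx | hx
  · left
    intro y hy
    have hyU : y ∈ U := (mem_iInter.1 hy ⟨W ∩ U, hWU, hxW, hx⟩).2
    exact (hAB hy).resolve_right fun h => hUB hyU h
  · right
    intro y hy
    have hWV : IsClopen (W \ U) := by
      have h1 : W \ U = W ∩ (W ∩ U)ᶜ := by
        ext z; simp only [mem_sdiff, mem_inter_iff, mem_compl_iff]; tauto
      rw [h1]; exact hW.inter hWU.compl
    have hxU : x ∉ U := fun h => hWd.le_bot ⟨Or.inl ⟨h, hx⟩, hxW⟩
    have hyU : y ∈ W \ U := mem_iInter.1 hy ⟨W \ U, hWV, hxW, hxU⟩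
    have hyV : y ∈ V := (hcov y hyU.1).resolve_left hyU.2
    exact (hAB hy).resolve_left fun h => hVA hyV h

/-- Clopen sets separate connected components. -/
theorem exists_isClopen_of_not_mem_connectedComponent [CompactSpace X] [QuasiSeparatedSpace X]
    [PrespectralSpace X] {x y : X} (h : y ∉ connectedComponent x) :
    ∃ W : Set X, IsClopen W ∧ x ∈ W ∧ y ∉ W := by
  rw [connectedComponent_eq_iInter, mem_iInter, not_forall] at h
  obtain ⟨⟨W, hW, hxW⟩, hy⟩ := h
  exact ⟨W, hW, hxW, hy⟩

theorem totallySeparated_connectedComponents [CompactSpace X] [QuasiSeparatedSpace X]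
    [PrespectralSpace X] : TotallySeparatedSpace (ConnectedComponents X) := by
  rw [totallySeparatedSpace_iff_exists_isClopen]
  intro a b hab
  obtain ⟨x, rfl⟩ := ConnectedComponents.surjective_coe a
  obtain ⟨y, rfl⟩ := ConnectedComponents.surjective_coe b
  have hy : y ∉ connectedComponent x := fun h =>
    hab (ConnectedComponents.coe_eq_coe'.2 h).symm
  obtain ⟨W, hW, hxW, hyW⟩ := exists_isClopen_of_not_mem_connectedComponent hy
  refine ⟨ConnectedComponents.mk '' W, ?_, ⟨x, hxW, rfl⟩, ?_⟩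
  · rw [← ConnectedComponents.isQuotientMap_coe.isClopen_preimage,
      connectedComponents_preimage_image, hW.biUnion_connectedComponent_eq]
    exact hW
  · rintro ⟨z, hz, hzy⟩
    exact hyW (hW.connectedComponent_subset hz (ConnectedComponents.coe_eq_coe'.1 hzy.symm))

theorem t2Space_connectedComponents [CompactSpace X] [QuasiSeparatedSpace X] [PrespectralSpace X] :
    T2Space (ConnectedComponents X) :=
  have := totallySeparated_connectedComponents (X := X)
  inferInstance

/-- A closed subspace of a spectral space is spectral. -/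
theorem spectralSpace_of_isClosedEmbedding {Y : Type*} [TopologicalSpace Y] [SpectralSpace X]
    {f : Y → X} (hf : IsClosedEmbedding f) : SpectralSpace Y := by
  have hc : CompactSpace Y := hf.compactSpace
  have hp : PrespectralSpace Y := PrespectralSpace.of_isClosedEmbedding f hf
  have key : ∀ U : Set Y, IsOpen U → IsCompact U →
      ∃ U' : Set X, IsOpen U' ∧ IsCompact U' ∧ f ⁻¹' U' = U := by
    intro U hUo hUc
    obtain ⟨O, hOo, hOU⟩ := hf.isInducing.isOpen_iff.1 hUo
    obtain ⟨U', hU'o, hU'c, hKU, hUO⟩ := exists_between (hUc.image hf.continuous) hOo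
      (by rintro _ ⟨y, hy, rfl⟩; rw [← hOU] at hy; exact hy)
    exact ⟨U', hU'o, hU'c, Subset.antisymm (fun y hy => hOU ▸ hUO hy)
      fun y hy => hKU ⟨y, hy, rfl⟩⟩
  have hq : QuasiSeparatedSpace Y := ⟨fun U V hUo hUc hVo hVc => by
    obtain ⟨U', hU'o, hU'c, rfl⟩ := key U hUo hUc
    obtain ⟨V', hV'o, hV'c, rfl⟩ := key V hVo hVc
    rw [← preimage_inter]
    exact hf.isCompact_preimage (QuasiSeparatedSpace.inter_isCompact U' V' hU'o hU'c hV'o hV'c)⟩
  have hs : QuasiSober Y := hf.quasiSober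
  have h0 : T0Space Y := hf.isEmbedding.t0Space
  exact { }

theorem isCompact_univ_constructible [CompactSpace X] [QuasiSober X] [PrespectralSpace X]
    [QuasiSeparatedSpace X] : @IsCompact X (constructibleTopology X) univ := by
  have h := @IsCompact.image (WithConstructibleTopology X) X _ (constructibleTopology X) _ _
    (isCompact_univ (X := WithConstructibleTopology X))
    (WithTopology.continuous_ofTopology (t := constructibleTopology X))
  rwa [image_univ, (WithTopology.ofTopology_surjective _).range_eq] at h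

/-- A constructibly closed set stable under specialization is closed. -/
theorem isClosed_of_constructible [SpectralSpace X] {S : Set X}
    (hS : IsClosed[constructibleTopology X] S) (hst : StableUnderSpecialization S) : IsClosed S := by
  refine isClosed_of_closure_subset fun x hx => ?_
  by_contra hxS
  let ι := { U : Set X // IsOpen U ∧ IsCompact U ∧ x ∈ U }
  have hne : Nonempty ι := ⟨⟨univ, isOpen_univ, isCompact_univ, trivial⟩⟩
  have hd : Directed (· ⊇ ·) (fun U : ι => (U : Set X) ∩ S) := fun U V =>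
    ⟨⟨U.1 ∩ V.1, U.2.1.inter V.2.1,
      QuasiSeparatedSpace.inter_isCompact _ _ U.2.1 U.2.2.1 V.2.1 V.2.2.1, U.2.2.2, V.2.2.2⟩,
      inter_subset_inter_left _ inter_subset_left, inter_subset_inter_left _ inter_subset_right⟩
  have hcl : ∀ U : ι, IsClosed[constructibleTopology X] ((U : Set X) ∩ S) := fun U =>
    @IsClosed.inter _ _ _ (constructibleTopology X) (@IsClosed.mk _ (constructibleTopology X) _
      (IsCompact.isOpen_constructibleTopology_of_isClosed (by simpa using U.2.2.1)
        U.2.1.isClosed_compl)) hS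
  have hemp : (univ : Set X) ∩ ⋂ U : ι, (U : Set X) ∩ S = ∅ := by
    refine eq_empty_of_forall_notMem fun y hy => hxS ?_
    simp only [univ_inter, mem_iInter, mem_inter_iff] at hy
    refine hst (x := y) ?_ (hy hne.some).2
    rw [specializes_iff_forall_open]
    intro O hO hxO
    obtain ⟨U, ⟨hUo, hUc⟩, hxU, hUO⟩ :=
      PrespectralSpace.isTopologicalBasis.exists_subset_of_mem_open hxO hO
    exact hUO (hy ⟨U, hUo, hUc, hxU⟩).1
  obtain ⟨U, hU⟩ := @IsCompact.elim_directed_family_closed X (constructibleTopology X) _ _ hne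
    isCompact_univ_constructible _ hcl hemp hd
  obtain ⟨y, hy⟩ := mem_closure_iff.1 hx U.1 U.2.1 U.2.2.2
  exact Set.eq_empty_iff_forall_notMem.1 hU y ⟨trivial, hy⟩

/-- The set of generalizations of a compact set is constructibly closed. -/
theorem isClosed_constructible_generalizations [PrespectralSpace X] {K : Set X} (hK : IsCompact K) :
    IsClosed[constructibleTopology X] {x : X | ∃ z ∈ K, x ⤳ z} := by
  have h : {x : X | ∃ z ∈ K, x ⤳ z} =
      ⋂ U : { U : Set X // IsOpen U ∧ IsCompact U ∧ K ⊆ U }, (U : Set X) := by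
    ext x
    simp only [mem_ofPred_eq, mem_iInter]
    refine ⟨fun ⟨z, hz, hxz⟩ U => hxz.mem_open U.2.1 (U.2.2.2 hz), fun h => ?_⟩
    by_contra hne
    push Not at hne
    have hsub : K ⊆ (closure {x})ᶜ := fun z hz hzx =>
      hne z hz (specializes_iff_mem_closure.2 hzx)
    obtain ⟨U, hUo, hUc, hKU, hUx⟩ := exists_between hK isClosed_closure.isOpen_compl hsub
    exact hUx (h ⟨U, hUo, hUc, hKU⟩) (subset_closure rfl)
  rw [h]
  exact @isClosed_iInter _ _ (constructibleTopology X) _ fun U =>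
    @IsClosed.mk _ (constructibleTopology X) _
      (IsCompact.isOpen_constructibleTopology_of_isClosed (by simpa using U.2.2.1)
        U.2.1.isClosed_compl)

/-- A spectral space in which all points are closed is Hausdorff. -/
theorem isClopen_of_forall_isClosed [SpectralSpace X] (h : ∀ x : X, IsClosed ({x} : Set X))
    {U : Set X} (hUo : IsOpen U) (hUc : IsCompact U) : IsClopen U := by
  refine ⟨isClosed_of_constructible (@IsClosed.mk _ (constructibleTopology X) _
    (IsCompact.isOpen_constructibleTopology_of_isClosed (by simpa using hUc)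
      hUo.isClosed_compl)) ?_, hUo⟩
  intro a b hab ha
  have : b ∈ closure ({a} : Set X) := specializes_iff_mem_closure.1 hab
  rw [(h a).closure_eq] at this
  exact this ▸ ha

theorem t2Space_of_forall_isClosed [SpectralSpace X] (h : ∀ x : X, IsClosed ({x} : Set X)) :
    T2Space X ∧ TotallyDisconnectedSpace X := by
  have : TotallySeparatedSpace X := totallySeparatedSpace_iff_exists_isClopen.2 fun x y hxy => by
    obtain ⟨U, ⟨hUo, hUc⟩, hxU, hUy⟩ :=
      PrespectralSpace.isTopologicalBasis.exists_subset_of_mem_open (a := x)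
        (show x ∈ ({y} : Set X)ᶜ from hxy) (h y).isOpen_compl
    exact ⟨U, isClopen_of_forall_isClosed h hUo hUc, hxU, fun hy => hUy hy rfl⟩
  exact ⟨inferInstance, inferInstance⟩

/-- Disjoint closed decompositions of `Z` lift to `X`. -/
theorem exists_lift_decomposition [SpectralSpace X] {Z : Set X}
    (hconn : ∀ x : X, IsConnected (Z ∩ closure {x})) {Z₁ Z₂ : Set X} (h₁ : IsClosed Z₁)
    (h₂ : IsClosed Z₂) (hdisj : Disjoint Z₁ Z₂) (hunion : Z₁ ∪ Z₂ = Z) :
    ∃ X₁ X₂ : Set X, IsClosed X₁ ∧ IsClosed X₂ ∧ Disjoint X₁ X₂ ∧ X₁ ∪ X₂ = univ ∧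
      Z₁ = Z ∩ X₁ ∧ Z₂ = Z ∩ X₂ := by
  have key : ∀ x : X, Z ∩ closure {x} ⊆ Z₁ ∨ Z ∩ closure {x} ⊆ Z₂ := fun x => by
    refine (isPreconnected_iff_subset_of_disjoint_closed.1 (hconn x).isPreconnected) Z₁ Z₂ h₁ h₂
      (by rw [hunion]; exact inter_subset_left) ?_
    rw [hdisj.inter_eq, inter_empty]
  have hcl : ∀ {A B : Set X}, IsClosed A → A ⊆ Z → Disjoint A B →
      (∀ x : X, Z ∩ closure {x} ⊆ A ∨ Z ∩ closure {x} ⊆ B) →
      IsClosed {x : X | Z ∩ closure {x} ⊆ A} := by
    intro A B hA hAZ hAB hk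
    have he : {x : X | Z ∩ closure {x} ⊆ A} = {x : X | ∃ z ∈ A, x ⤳ z} := by
      ext x
      refine ⟨fun hx => ?_, fun ⟨z, hz, hxz⟩ => ?_⟩
      · obtain ⟨z, hz⟩ := (hconn x).nonempty
        exact ⟨z, hx hz, specializes_iff_mem_closure.2 hz.2⟩
      · exact (hk x).resolve_right fun h =>
          hAB.le_bot ⟨hz, h ⟨hAZ hz, specializes_iff_mem_closure.1 hxz⟩⟩
    refine isClosed_of_constructible (he ▸ isClosed_constructible_generalizations hA.isCompact) ?_
    intro a b hab ha w hw
    exact ha ⟨hw.1, (hab.closure_subset) hw.2⟩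
  refine ⟨{x | Z ∩ closure {x} ⊆ Z₁}, {x | Z ∩ closure {x} ⊆ Z₂},
    hcl h₁ (hunion ▸ subset_union_left) hdisj key,
    hcl h₂ (hunion ▸ subset_union_right) hdisj.symm fun x => (key x).symm, ?_,
    eq_univ_of_forall key, ?_, ?_⟩
  · rw [Set.disjoint_left]
    intro x hx hx'
    obtain ⟨z, hz⟩ := (hconn x).nonempty
    exact hdisj.le_bot ⟨hx hz, hx' hz⟩
  · refine Subset.antisymm (fun z hz => ⟨hunion ▸ Or.inl hz, fun w hw => ?_⟩) fun z hz => ?_
    · exact (h₁.closure_subset_iff.2 (singleton_subset_iff.2 hz)) hw.2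
    · exact hz.2 ⟨hz.1, subset_closure rfl⟩
  · refine Subset.antisymm (fun z hz => ⟨hunion ▸ Or.inr hz, fun w hw => ?_⟩) fun z hz => ?_
    · exact (h₂.closure_subset_iff.2 (singleton_subset_iff.2 hz)) hw.2
    · exact hz.2 ⟨hz.1, subset_closure rfl⟩

end Groth.Agent.Spec91
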