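import Groth.Agent.Spec91.WLocal
import Groth.Prelude.Def_ProEtW

universe u

open Topology

namespace Groth.Agent.Spec91

/-- A space with a closed embedding into a w-local space is w-local. -/
theorem isWLocal_of_isClosedEmbedding {X Y : Type u} [TopologicalSpace X] [TopologicalSpace Y]
    {f : Y → X} (he : IsClosedEmbedding f) (hX : ProEtW.IsWLocal X) : ProEtW.IsWLocal Y := by
  obtain ⟨hs, h0, huniq⟩ := hX
  have hcl : ∀ y : Y, IsClosed ({y} : Set Y) ↔ IsClosed ({f y} : Set X) := fun y => by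
    rw [he.isClosed_iff_image_isClosed, Set.image_singleton]
  refine ⟨spectralSpace_of_isClosedEmbedding he, ?_, fun y => ?_⟩
  · have : {y : Y | IsClosed ({y} : Set Y)} = f ⁻¹' {x : X | IsClosed ({x} : Set X)} :=
      Set.ext fun y => hcl y
    rw [this]; exact h0.preimage he.continuous
  · obtain ⟨z, ⟨hz, hyz⟩, hu⟩ := huniq (f y)
    obtain ⟨w, rfl⟩ : z ∈ Set.range f := hyz.mem_closed he.isClosed_range (Set.mem_range_self y)
    refine ⟨w, ⟨(hcl _).2 hz, he.isInducing.specializes_iff.1 hyz⟩, ?_⟩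
    rintro v ⟨hv, hyv⟩
    exact he.injective (hu (f v) ⟨(hcl v).1 hv, he.isInducing.specializes_iff.2 hyv⟩)

end Groth.Agent.Spec91
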