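import Groth.Agent.Spec91.Basic
import Mathlib.RingTheory.Spectrum.Prime.Topology

universe u

namespace Groth.Agent.Spec91

variable {A : Type u} [CommRing A]

/-- A point off the component lies in `V(e)` for an idempotent whose `D(e)` contains the component. -/
theorem exists_idempotent_separating {c : ConnectedComponents (PrimeSpectrum A)} {x : PrimeSpectrum A}
    (hx : ConnectedComponents.mk x ≠ c) :
    ∃ e : A, IsIdempotentElem e ∧ e ∈ x.asIdeal ∧
      ∀ y : PrimeSpectrum A, ConnectedComponents.mk y = c → e ∉ y.asIdeal := by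
  obtain ⟨z, rfl⟩ := ConnectedComponents.surjective_coe c
  obtain ⟨W, hW, hzW, hxW⟩ := exists_isClopen_of_not_mem_connectedComponent
    (x := z) (y := x) fun h => hx (ConnectedComponents.coe_eq_coe'.2 h)
  obtain ⟨e, he, rfl⟩ := PrimeSpectrum.exists_idempotent_basicOpen_eq_of_isClopen hW
  refine ⟨e, he, by_contra hxW, fun y hy => ?_⟩
  exact hW.connectedComponent_subset hzW (ConnectedComponents.coe_eq_coe'.1 hy)

/-- An idempotent separating a point from a closed set of components. -/
theorem exists_idempotent_separating_closed {T : Set (ConnectedComponents (PrimeSpectrum A))}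
    (hT : IsClosed T) {x : PrimeSpectrum A} (hx : ConnectedComponents.mk x ∉ T) :
    ∃ e : A, IsIdempotentElem e ∧ e ∈ x.asIdeal ∧
      ∀ y : PrimeSpectrum A, ConnectedComponents.mk y ∈ T → e ∉ y.asIdeal := by
  have := totallySeparated_connectedComponents (X := PrimeSpectrum A)
  have := t2Space_connectedComponents (X := PrimeSpectrum A)
  obtain ⟨V, hV, hxV, hVT⟩ := compact_exists_isClopen_in_isOpen hT.isOpen_compl hx
  obtain ⟨e, he, hee⟩ := PrimeSpectrum.exists_idempotent_basicOpen_eq_of_isClopen
    (hV.compl.preimage ConnectedComponents.continuous_coe)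
  refine ⟨e, he, by_contra fun h => ?_, fun y hy => ?_⟩
  · exact absurd (hee.symm ▸ h : x ∈ ConnectedComponents.mk ⁻¹' Vᶜ) (fun h' => h' hxV)
  · have h1 : y ∈ ConnectedComponents.mk ⁻¹' Vᶜ := fun h' => hVT h' hy
    rw [hee] at h1
    exact h1

end Groth.Agent.Spec91
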