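import Groth.Agent.Spec91.Basic
import Mathlib.Topology.ExtremallyDisconnected
import Mathlib.Topology.Constructible

open Set Topology

namespace Groth.Agent.Spec91

variable {X : Type*} [TopologicalSpace X]

/-- An open subspace of an extremally disconnected space is extremally disconnected. -/
theorem extremallyDisconnected_of_isOpen [ExtremallyDisconnected X] {Z : Set X} (hZ : IsOpen Z) :
    ExtremallyDisconnected Z :=
  ⟨fun U hU => by
    rw [hZ.isOpenEmbedding_subtypeVal.isInducing.closure_eq_preimage_closure_image]
    exact (ExtremallyDisconnected.open_closure _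
      (hZ.isOpenMap_subtype_val U hU)).preimage continuous_subtype_val⟩

/-- Extremal disconnectedness is local. -/
theorem extremallyDisconnected_of_cover
    (h : ∀ x : X, ∃ W : Set X, IsOpen W ∧ x ∈ W ∧ ExtremallyDisconnected W) :
    ExtremallyDisconnected X := by
  refine ⟨fun U hU => isOpen_iff_forall_mem_open.2 fun x hx => ?_⟩
  obtain ⟨W, hW, hxW, hed⟩ := h x
  have he : closure (Subtype.val ⁻¹' U : Set W) = Subtype.val ⁻¹' closure U :=
    (hW.isOpenMap_subtype_val.preimage_closure_eq_closure_preimage continuous_subtype_val U).symm
  have ho : IsOpen (Subtype.val ⁻¹' closure U : Set W) :=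
    he ▸ hed.open_closure _ (hU.preimage continuous_subtype_val)
  refine ⟨closure U ∩ W, inter_subset_left, ?_, hx, hxW⟩
  have h1 := hW.isOpenMap_subtype_val _ ho
  rwa [Subtype.image_preimage_coe, inter_comm] at h1

/-- Constructible sets in a spectral space with closed points are clopen. -/
theorem isClopen_of_isConstructible [SpectralSpace X] (h : ∀ x : X, IsClosed ({x} : Set X))
    {s : Set X} (hs : IsConstructible s) : IsClopen s := by
  induction hs using IsConstructible.empty_union_induction with
  | open_retrocompact U hU hUc => exact isClopen_of_forall_isClosed h hU hUc.isCompact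
  | union s _ t _ hs' ht' => exact hs'.union ht'
  | compl s _ hs' => exact hs'.compl

end Groth.Agent.Spec91
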