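import Groth.Agent.Spec91.Basic

open Set Topology

namespace Groth.Agent.Spec91

variable {X : Type*} [TopologicalSpace X]

theorem exists_closed_specialization [T0Space X] [CompactSpace X] (x : X) :
    ∃ z : X, IsClosed ({z} : Set X) ∧ x ⤳ z := by
  obtain ⟨z, hz, hzc⟩ := (isClosed_closure (s := ({x} : Set X))).exists_closed_singleton
    ⟨x, subset_closure rfl⟩
  exact ⟨z, hzc, specializes_iff_mem_closure.2 hz⟩

theorem surjective_closedPoints_components [T0Space X] [CompactSpace X] :
    Function.Surjective fun x : {x : X // IsClosed ({x} : Set X)} => ConnectedComponents.mk x.1 := by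
  intro c
  obtain ⟨x, rfl⟩ := ConnectedComponents.surjective_coe c
  obtain ⟨z, hz, hxz⟩ := exists_closed_specialization x
  exact ⟨⟨z, hz⟩, ConnectedComponents.coe_eq_coe'.2
    (hxz.mem_closed isClosed_connectedComponent mem_connectedComponent)⟩

theorem isConnected_closedPoints_inter (huniq : ∀ x : X, ∃! z : X, IsClosed ({z} : Set X) ∧ x ⤳ z)
    (x : X) : IsConnected ({z : X | IsClosed ({z} : Set X)} ∩ closure {x}) := by
  obtain ⟨z, hz, hu⟩ := huniq x
  have : {z : X | IsClosed ({z} : Set X)} ∩ closure {x} = {z} := Subset.antisymm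
    (fun w hw => hu w ⟨hw.1, specializes_iff_mem_closure.2 hw.2⟩)
    (singleton_subset_iff.2 ⟨hz.1, specializes_iff_mem_closure.1 hz.2⟩)
  rw [this]; exact isConnected_singleton

/-- For closed `closedPoints`, the subspace of closed points is Hausdorff and totally disconnected. -/
theorem closedPoints_profinite [SpectralSpace X] (h0 : IsClosed {x : X | IsClosed ({x} : Set X)}) :
    T2Space {x : X // IsClosed ({x} : Set X)} ∧
      TotallyDisconnectedSpace {x : X // IsClosed ({x} : Set X)} ∧
      CompactSpace {x : X // IsClosed ({x} : Set X)} := by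
  have he : IsClosedEmbedding (Subtype.val : {x : X // IsClosed ({x} : Set X)} → X) :=
    h0.isClosedEmbedding_subtypeVal
  have := spectralSpace_of_isClosedEmbedding he
  obtain ⟨a, b⟩ := t2Space_of_forall_isClosed (X := {x : X // IsClosed ({x} : Set X)}) fun x => by
    have : ({x} : Set _) = Subtype.val ⁻¹' {x.1} := by ext; simp [Subtype.ext_iff]
    rw [this]; exact x.2.preimage continuous_subtype_val
  exact ⟨a, b, inferInstance⟩

/-- If closed points form a closed set and each point has a unique closed specialization, closed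
points map bijectively onto the connected components. -/
theorem bijective_closedPoints_components [SpectralSpace X]
    (h0 : IsClosed {x : X | IsClosed ({x} : Set X)})
    (huniq : ∀ x : X, ∃! z : X, IsClosed ({z} : Set X) ∧ x ⤳ z) :
    Function.Bijective fun x : {x : X // IsClosed ({x} : Set X)} => ConnectedComponents.mk x.1 := by
  refine ⟨fun a b hab => ?_, surjective_closedPoints_components⟩
  by_contra hne
  obtain ⟨_, _, _⟩ := closedPoints_profinite h0
  obtain ⟨W, hW, haW, hbW⟩ : ∃ W : Set {x : X // IsClosed ({x} : Set X)}, IsClopen W ∧ a ∈ W ∧ b ∉ W :=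
    compact_exists_isClopen_in_isOpen (isOpen_compl_singleton (x := b)) hne |>.imp
      fun W h => ⟨h.1, h.2.1, fun hb => h.2.2 hb rfl⟩
  have he := h0.isClosedEmbedding_subtypeVal
  obtain ⟨X₁, X₂, h₁, h₂, hd, hu, hZ₁, hZ₂⟩ := exists_lift_decomposition
    (isConnected_closedPoints_inter huniq) (he.isClosedMap _ hW.1) (he.isClosedMap _ hW.compl.1)
    ((disjoint_image_iff Subtype.val_injective).2 disjoint_compl_right)
    (by rw [← image_union, union_compl_self, image_univ, Subtype.range_coe_subtype]; rfl)
  have hopen : IsClopen X₁ := ⟨h₁, by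
    rw [show X₁ = X₂ᶜ from (eq_compl_iff_isCompl.2 ⟨hd, codisjoint_iff.2 hu⟩)]
    exact h₂.isOpen_compl⟩
  have ha1 : (a : X) ∈ X₁ := (hZ₁ ▸ mem_image_of_mem Subtype.val haW).2
  have hb2 : (b : X) ∈ X₂ := (hZ₂ ▸ mem_image_of_mem Subtype.val (show b ∈ Wᶜ from hbW)).2
  exact hd.le_bot ⟨hopen.connectedComponent_subset ha1
    (ConnectedComponents.coe_eq_coe'.1 hab.symm), hb2⟩

end Groth.Agent.Spec91
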