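import Groth.Agent.Spec91.WLocal
import Mathlib.Topology.Constructions.SumProd

open Set Topology

namespace Groth.Agent.Spec91

variable {X T : Type*} [TopologicalSpace X] [TopologicalSpace T]

theorem quasiSober_prod [QuasiSober X] [T2Space T] : QuasiSober (X × T) := by
  refine ⟨fun {S} hS hSc => ?_⟩
  have hT : (Prod.snd '' S).Subsingleton :=
    isPreirreducible_iff_subsingleton.1 (hS.isPreirreducible.image _ continuous_snd.continuousOn)
  obtain ⟨⟨x₀, t⟩, hx₀⟩ := hS.nonempty
  have hfst : ∀ p ∈ S, p.2 = t := fun p hp => hT ⟨p, hp, rfl⟩ ⟨_, hx₀, rfl⟩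
  have hS' : S = (fun x => (x, t)) '' (Prod.fst '' S) := by
    ext ⟨x, s⟩
    constructor
    · intro h; exact ⟨x, ⟨_, h, rfl⟩, by rw [show s = t from hfst _ h]⟩
    · rintro ⟨_, ⟨⟨y, r⟩, h, rfl⟩, he⟩
      obtain ⟨rfl, rfl⟩ := Prod.mk.inj he
      obtain rfl : r = t := hfst _ h
      exact h
  have hcl : IsClosed (Prod.fst '' S) := by
    have : Prod.fst '' S = (fun x => (x, t)) ⁻¹' S := by
      ext x
      refine ⟨fun ⟨⟨y, r⟩, h, e⟩ => ?_, fun h => ⟨_, h, rfl⟩⟩
      simp only at e; subst e
      obtain rfl : r = t := hfst _ h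
      exact h
    rw [this]; exact hSc.preimage (continuous_id.prodMk continuous_const)
  have hirr : IsIrreducible (Prod.fst '' S) :=
    ⟨hS.nonempty.image _, hS.isPreirreducible.image _ continuous_fst.continuousOn⟩
  obtain ⟨g, hg⟩ := QuasiSober.sober hirr hcl
  refine ⟨(g, t), ?_⟩
  rw [isGenericPoint_def]
  conv_rhs => rw [hS']
  rw [← Set.singleton_prod_singleton, closure_prod_eq,
    (isClosed_singleton (x := t)).closure_eq, isGenericPoint_def.1 hg]
  ext ⟨x, s⟩
  simp only [mem_prod, mem_singleton_iff]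
  exact ⟨fun h => ⟨x, h.1, by rw [h.2]⟩, fun ⟨y, hy, e⟩ => by cases e; exact ⟨hy, rfl⟩⟩

theorem exists_box_cover [PrespectralSpace X] [PrespectralSpace T] {U : Set (X × T)} (hUo : IsOpen U)
    (hUc : IsCompact U) :
    ∃ s : Set (Set X × Set T), s.Finite ∧
      (∀ p ∈ s, (IsOpen p.1 ∧ IsCompact p.1) ∧ IsOpen p.2 ∧ IsCompact p.2) ∧
      U = ⋃ p ∈ s, p.1 ×ˢ p.2 := by
  have hB := (PrespectralSpace.isTopologicalBasis (X := X)).prod
    (PrespectralSpace.isTopologicalBasis (X := T))
  obtain ⟨S, hS, hUS⟩ := hB.open_eq_sUnion hUo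
  rw [sUnion_eq_biUnion] at hUS
  obtain ⟨F, hFS, hF, hUF⟩ := hUc.elim_finite_subcover_image (b := S) (c := id)
    (fun W hW => hB.isOpen (hS hW)) hUS.subset
  choose A hA C hC hAC using fun W : F => hS (hFS W.2)
  have := hF.to_subtype
  refine ⟨range fun W : F => (A W, C W), finite_range _, ?_, ?_⟩
  · rintro _ ⟨W, rfl⟩; exact ⟨hA W, hC W⟩
  · refine Subset.antisymm ?_ ?_
    · intro p hp
      obtain ⟨W, hW, hpW⟩ := mem_iUnion₂.1 (hUF hp)
      refine mem_iUnion₂.2 ⟨(A ⟨W, hW⟩, C ⟨W, hW⟩), ⟨⟨W, hW⟩, rfl⟩, ?_⟩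
      show p ∈ A ⟨W, hW⟩ ×ˢ C ⟨W, hW⟩
      rw [show A ⟨W, hW⟩ ×ˢ C ⟨W, hW⟩ = W from hAC ⟨W, hW⟩]
      exact hpW
    · intro p hp
      obtain ⟨_, ⟨W, rfl⟩, hpW⟩ := mem_iUnion₂.1 hp
      rw [hUS]
      exact mem_iUnion₂.2 ⟨W.1, hFS W.2, (hAC W) ▸ hpW⟩

theorem spectralSpace_prod [SpectralSpace X] [SpectralSpace T] [T2Space T] :
    SpectralSpace (X × T) := by
  have := quasiSober_prod (X := X) (T := T)
  have hp : PrespectralSpace (X × T) := PrespectralSpace.of_isTopologicalBasis
    ((PrespectralSpace.isTopologicalBasis (X := X)).prod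
      (PrespectralSpace.isTopologicalBasis (X := T)))
    (by rintro _ ⟨U, hU, W, hW, rfl⟩; exact hU.2.prod hW.2)
  have hq : QuasiSeparatedSpace (X × T) := ⟨fun U V hUo hUc hVo hVc => by
    obtain ⟨s, hs, hsU, rfl⟩ := exists_box_cover hUo hUc
    obtain ⟨t, ht, htV, rfl⟩ := exists_box_cover hVo hVc
    simp only [iUnion_inter, inter_iUnion]
    refine ht.isCompact_biUnion fun q hq => hs.isCompact_biUnion fun p hp => ?_
    rw [Set.prod_inter_prod]
    exact (QuasiSeparatedSpace.inter_isCompact _ _ (hsU p hp).1.1 (hsU p hp).1.2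
      (htV q hq).1.1 (htV q hq).1.2).prod ((hsU p hp).2.2.inter (htV q hq).2.2)⟩
  exact { }

theorem spectralSpace_of_profinite [CompactSpace T] [T2Space T] [TotallyDisconnectedSpace T] :
    SpectralSpace T := by
  have hp : PrespectralSpace T := PrespectralSpace.of_isTopologicalBasis
    (isTopologicalBasis_isClopen (X := T)) fun U hU => hU.1.isCompact
  have hq : QuasiSeparatedSpace T := ⟨fun U V _ hUc _ hVc => hUc.inter hVc⟩
  exact { }

/-- The fibre product of a space with a profinite space over its components. -/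
abbrev PiPullback (g : C(T, ConnectedComponents X)) : Type _ :=
  {p : X × T // ConnectedComponents.mk p.1 = g p.2}

variable (g : C(T, ConnectedComponents X))

theorem isClosedEmbedding_piPullback [SpectralSpace X] :
    IsClosedEmbedding (Subtype.val : PiPullback g → X × T) := by
  have := t2Space_connectedComponents (X := X)
  exact (isClosed_eq (ConnectedComponents.continuous_coe.comp continuous_fst)
    (g.continuous.comp continuous_snd)).isClosedEmbedding_subtypeVal

variable [CompactSpace T] [T2Space T] [TotallyDisconnectedSpace T]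

theorem spectralSpace_piPullback [SpectralSpace X] : SpectralSpace (PiPullback g) :=
  have := spectralSpace_of_profinite (T := T)
  have := spectralSpace_prod (X := X) (T := T)
  spectralSpace_of_isClosedEmbedding (isClosedEmbedding_piPullback g)

theorem exists_homeo_components [SpectralSpace X] :
    ∃ e : ConnectedComponents (PiPullback g) ≃ₜ T,
      ∀ y : PiPullback g, e (ConnectedComponents.mk y) = y.1.2 := by
  have hs := spectralSpace_piPullback g
  have hcont : Continuous fun y : PiPullback g => y.1.2 := continuous_snd.comp continuous_subtype_val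
  let φ := hcont.connectedComponentsLift
  have hφ : ∀ y, φ (ConnectedComponents.mk y) = y.1.2 := hcont.connectedComponentsLift_apply_coe
  have hbij : Function.Bijective φ := by
    refine ⟨fun a b hab => ?_, fun t => ?_⟩
    · obtain ⟨⟨⟨x, s⟩, hx⟩, rfl⟩ := ConnectedComponents.surjective_coe a
      obtain ⟨⟨⟨x', s'⟩, hx'⟩, rfl⟩ := ConnectedComponents.surjective_coe b
      rw [hφ, hφ] at hab
      dsimp only at hab hx hx'
      subst hab
      rw [ConnectedComponents.coe_eq_coe']
      have hxs : ∀ y ∈ connectedComponent x', ConnectedComponents.mk y = g s :=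
        fun y hy => (ConnectedComponents.coe_eq_coe'.2 hy).trans hx'
      have : PreconnectedSpace (connectedComponent x') :=
        Subtype.preconnectedSpace isPreconnected_connectedComponent
      let F : connectedComponent x' → PiPullback g := fun y => ⟨(y.1, s), hxs y.1 y.2⟩
      have hF : Continuous F :=
        Continuous.subtype_mk (continuous_subtype_val.prodMk continuous_const) _
      exact (isPreconnected_range hF).subset_connectedComponent
        ⟨⟨x', mem_connectedComponent⟩, rfl⟩
        ⟨⟨x, ConnectedComponents.coe_eq_coe'.1 (hx.trans hx'.symm)⟩, rfl⟩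
    · obtain ⟨x, hx⟩ := ConnectedComponents.surjective_coe (g t)
      exact ⟨ConnectedComponents.mk ⟨(x, t), hx⟩, hφ _⟩
  exact ⟨Continuous.homeoOfEquivCompactToT2 (f := Equiv.ofBijective φ hbij)
    hcont.connectedComponentsLift_continuous, hφ⟩

/-- Closed points and specializations of the fibre product. -/
theorem isClosed_singleton_piPullback [SpectralSpace X] (y : PiPullback g) :
    IsClosed ({y} : Set (PiPullback g)) ↔ IsClosed ({y.1.1} : Set X) := by
  rw [(isClosedEmbedding_piPullback g).isClosed_iff_image_isClosed, image_singleton]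
  constructor
  · intro h
    have he : ({y.1.1} : Set X) = (fun x => (x, y.1.2)) ⁻¹' {y.1} := by
      ext x; simp [Prod.ext_iff]
    rw [he]; exact h.preimage (continuous_id.prodMk continuous_const)
  · intro h
    have : ({y.1} : Set (X × T)) = {y.1.1} ×ˢ {y.1.2} := by simp
    rw [this]; exact h.prod isClosed_singleton

theorem specializes_piPullback (y z : PiPullback g) :
    y ⤳ z ↔ y.1.1 ⤳ z.1.1 ∧ y.1.2 = z.1.2 := by
  rw [subtype_specializes_iff, specializes_prod]
  exact and_congr_right fun _ => specializes_iff_eq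

theorem isSpectralMap_fst_piPullback [SpectralSpace X] :
    IsSpectralMap fun y : PiPullback g => y.1.1 := by
  refine ⟨continuous_fst.comp continuous_subtype_val, fun s _ hs => ?_⟩
  have : (fun y : PiPullback g => y.1.1) ⁻¹' s = Subtype.val ⁻¹' (s ×ˢ (univ : Set T)) := by
    ext y; simp
  rw [this]
  exact (isClosedEmbedding_piPullback g).isCompact_preimage (hs.prod isCompact_univ)

theorem exists_unique_closed_specialization [SpectralSpace X]
    (huniq : ∀ x : X, ∃! z : X, IsClosed ({z} : Set X) ∧ x ⤳ z) (y : PiPullback g) :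
    ∃! z : PiPullback g, IsClosed ({z} : Set (PiPullback g)) ∧ y ⤳ z := by
  obtain ⟨z, ⟨hz, hyz⟩, hu⟩ := huniq y.1.1
  have hzc : ConnectedComponents.mk z = g y.1.2 := y.2 ▸
    ConnectedComponents.coe_eq_coe'.2 (hyz.mem_closed isClosed_connectedComponent mem_connectedComponent)
  refine ⟨⟨(z, y.1.2), hzc⟩, ⟨(isClosed_singleton_piPullback g _).2 hz,
    (specializes_piPullback g _ _).2 ⟨hyz, rfl⟩⟩, fun w ⟨hw, hyw⟩ => ?_⟩
  obtain ⟨h1, h2⟩ := (specializes_piPullback g _ _).1 hyw
  exact Subtype.ext (Prod.ext (hu _ ⟨(isClosed_singleton_piPullback g w).1 hw, h1⟩) h2.symm)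

end Groth.Agent.Spec91
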